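import Groth.Agent.Jets24.Basic
import Groth.Agent.PicLib.FlatSections
import Groth.Prelude.Def_CurvBase
import Mathlib.AlgebraicGeometry.ResidueField

/-!
# Separation of jets at a rational point and field extensions
-/

set_option autoImplicit false
set_option linter.style.haveILetI false
set_option linter.unusedSectionVars false
set_option backward.isDefEq.respectTransparency false
set_option maxHeartbeats 1600000

universe u

open CategoryTheory CategoryTheory.Limits AlgebraicGeometry Opposite TopologicalSpace TensorProduct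
open Groth.Agent.Coherent Groth.Agent.PicLib

noncomputable section

namespace Groth.Agent.JetsBC29

section BC

variable {X X' : Scheme.{u}} (g : X' ⟶ X) {A B : Type u} [CommRing A] [CommRing B] [Algebra A B]
  (φ : A →+* Γ(X, ⊤)) (β : B →+* Γ(X', ⊤)) (M : X.Modules)
  (hcomm : ∀ a, g.appTop (φ a) = β (algebraMap A B a))

/-- The constants on an open. -/
abbrev cst (U : X.Opens) : A →+* Γ(X, U) := (X.presheaf.map (homOfLE (le_top (a := U))).op).hom.comp φ

/-- Degree zero cohomology over an open is the module of sections. -/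
def secU (U : X.Opens) : HA φ M U 0 ≃+ Γ(M, U) :=
  secH (X := X.toTopCat) (Coh.toAb M) U

theorem secU_smul (U : X.Opens) (a : A) (x : HA φ M U 0) :
    secU φ M U (a • x) = cst φ U a • secU φ M U x :=
  (secH_postH (X := X.toTopCat) (smulEndAb M (φ a)) U x).trans (smulEndAb_app M (φ a) U _)

include hcomm in
/-- Flat base change of sections over a compact open. -/
theorem exists_bc [CompactSpace X] [QuasiSeparatedSpace X] [Module.Flat A B] [IsAffineHom g]
    [Coh.IsQCoh M] (hp : ∀ U, IsAffineOpen U → IsBCPushout g φ β U) {U : X.Opens} (hU : IsCompact (U : Set X)) :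
    ∃ E : B ⊗[A] HA φ M U 0 ≃+ Γ((Scheme.Modules.pullback g).obj M, g ⁻¹ᵁ U),
      ∀ (b : B) (x : HA φ M U 0), E (b ⊗ₜ x) =
        cst β (g ⁻¹ᵁ U) b • pullSec g (secU φ M U x) := by
  let T := LinearEquiv.ofBijective (bcMap g φ β M hcomm U 0) (bijective_bcMap g φ β M hcomm hp hU 0)
  let S : BCMod g M β U 0 ≃+ Γ((Scheme.Modules.pullback g).obj M, g ⁻¹ᵁ U) :=
    secH (X := X.toTopCat) (Coh.toAb (bcPush g M)) U
  refine ⟨T.toAddEquiv.trans S, fun b x => ?_⟩
  show S (bcMap g φ β M hcomm U 0 (b ⊗ₜ x)) = _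
  rw [bcMap, LinearMap.liftBaseChange_tmul]
  refine ((secH_postH (X := X.toTopCat) (bcAct g β M b) U _).trans (bcAct_app g β M b U _)).trans ?_
  exact congrArg (fun t : Γ((Scheme.Modules.pullback g).obj M, g ⁻¹ᵁ U) => cst β (g ⁻¹ᵁ U) b • t)
    (secH_postH (X := X.toTopCat) _ U x)

end BC

theorem mem_pointIdeal_iff {X : Scheme.{u}} {x : X} (hx : IsClosed ({x} : Set X)) (U : X.affineOpens)
    (hxU : x ∈ U.1) (a : Γ(X, U.1)) :
    a ∈ (W4c2seshadripos.pointIdeal x hx).ideal U ↔ x ∉ X.basicOpen a := by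
  rw [W4c2seshadripos.pointIdeal, Scheme.IdealSheafData.vanishingIdeal_ideal, PrimeSpectrum.mem_vanishingIdeal]
  obtain ⟨p, hp⟩ : x ∈ Set.range U.2.fromSpec := U.2.range_fromSpec.symm ▸ hxU
  have hiff : ∀ q : PrimeSpectrum Γ(X, U.1), U.2.fromSpec q = x → (x ∈ X.basicOpen a ↔ a ∉ q.asIdeal) := by
    intro q hq
    rw [← hq]
    exact (SetLike.ext_iff.1 (U.2.fromSpec_preimage_basicOpen a) q).trans (PrimeSpectrum.mem_basicOpen a q)
  refine ⟨fun h hb => (hiff p hp).1 hb (h p hp), fun h q hq => ?_⟩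
  by_contra hne
  exact h ((hiff q hq).2 hne)

theorem main (k : Type u) [Field k] (X : Scheme.{u}) [X.Over (Spec (CommRingCat.of k))]
    [IsProper (X ↘ (Spec (CommRingCat.of k)))]
    (F : X.Modules) [Coh.IsQCoh F] (x : X) (hx : IsClosed ({x} : Set X))
    (hrat : Function.Surjective (Curv2.resMap k X x))
    (k' : Type u) [Field k'] [Algebra k k']
    (x' : ↥(Curv2.bc k X k')) (hx' : Curv2.bcFst k X k' x' = x) (hx'c : IsClosed ({x'} : Set ↥(Curv2.bc k X k')))
    (l : ℕ) :
    W4c2seshadripos.SeparatesJets F x hx l ↔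
      W4c2seshadripos.SeparatesJets ((Scheme.Modules.pullback (Curv2.bcFst k X k')).obj F) x' hx'c l := by
  classical
  letI : (Curv2.bc k X k').Over (Spec (CommRingCat.of k')) := ⟨Curv2.bcSnd k X k'⟩
  let g := Curv2.bcFst k X k'
  have hpb : IsPullback g (Curv2.bc k X k' ↘ Spec (CommRingCat.of k')) (X ↘ Spec (CommRingCat.of k))
      (Spec.map (CommRingCat.ofHom (algebraMap k k'))) := IsPullback.of_hasPullback _ _
  haveI : IsAffineHom g :=
    MorphismProperty.IsStableUnderBaseChange.of_isPullback (P := @IsAffineHom) hpb.flip inferInstance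
  haveI : CompactSpace X := QuasiCompact.compactSpace_of_compactSpace (X ↘ Spec (CommRingCat.of k))
  haveI : QuasiSeparatedSpace X := (quasiSeparated_iff_quasiSeparatedSpace (X ↘ Spec (CommRingCat.of k))).1 inferInstance
  let φ := Coh.toGlobal (X ↘ Spec (CommRingCat.of k))
  let β := Coh.toGlobal (Curv2.bc k X k' ↘ Spec (CommRingCat.of k'))
  have hc : ∀ a, g.appTop (φ a) = β (algebraMap k k' a) := appTop_toGlobal g hpb
  have hp : ∀ U, IsAffineOpen U → IsBCPushout g φ β U := fun U hU => isBCPushout_of_isPullback g hpb hU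
  let P := (Scheme.Modules.pullback g).obj F
  haveI : Coh.IsQCoh P := EGA43.InjFibre.isQCoh_pullback _ _
  obtain ⟨U₀, hU₀, hxU, -⟩ := Opens.isBasis_iff_nbhd.mp X.isBasis_affineOpens (Opens.mem_top x)
  let U : X.affineOpens := ⟨U₀, hU₀⟩
  let U' : (Curv2.bc k X k').affineOpens := ⟨g ⁻¹ᵁ U.1, U.2.preimage g⟩
  have hx'U : x' ∈ U'.1 := by show g x' ∈ U.1; rw [hx']; exact hxU
  obtain ⟨E, hE⟩ := exists_bc g φ β F hc hp U.2.isCompact
  obtain ⟨ET, hET⟩ := exists_bc g φ β F hc hp (U := ⊤) isCompact_univ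
  -- compatibilities
  let cU := cst φ U.1
  let bU := cst β U'.1
  let f : Γ(X, U.1) →+* Γ(Curv2.bc k X k', U'.1) := (g.app U.1).hom
  let p : Γ(F, U.1) →+ Γ(P, U'.1) :=
    (((Scheme.Modules.pullbackPushforwardAdjunction g).unit.app F).app U.1).hom
  have hfc : ∀ a, f (cU a) = bU (algebraMap k k' a) := fun a => by
    show g.app U.1 (X.presheaf.map _ (φ a)) = (Curv2.bc k X k').presheaf.map _ (β (algebraMap k k' a))
    rw [← hc a]
    exact ConcreteCategory.congr_hom (g.naturality (homOfLE (le_top (a := U.1))).op) (φ a)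
  have hpsmul : ∀ r m, p (r • m) = f r • p m := fun r m => pullSec_smul g r m
  have hspanM : ∀ m' : Γ(P, U'.1), m' ∈ AddSubgroup.closure {z | ∃ b m, z = bU b • p m} := by
    intro m'
    obtain ⟨z, rfl⟩ := E.surjective m'
    induction z with
    | zero => rw [map_zero]; exact zero_mem _
    | tmul b y => exact AddSubgroup.subset_closure ⟨b, _, hE b y⟩
    | add a b ha hb => rw [map_add]; exact add_mem ha hb
  -- the ideals
  let J := (W4c2seshadripos.pointIdeal x hx).ideal U
  let J' := (W4c2seshadripos.pointIdeal x' hx'c).ideal U'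
  have hres : ∀ a : Γ(X, U.1), ∃ c : k, a - cU c ∈ J := by
    intro a
    obtain ⟨c, hc'⟩ := hrat (X.evaluation U.1 x hxU a)
    refine ⟨c, (mem_pointIdeal_iff hx U hxU _).2 ((Scheme.evaluation_eq_zero_iff_notMem_basicOpen X x hxU _).1 ?_)⟩
    rw [map_sub, sub_eq_zero, ← hc']
    show (X.residue x).hom ((X.presheaf.germ ⊤ x trivial).hom (φ c)) =
      (X.residue x).hom ((X.presheaf.germ U.1 x hxU).hom (X.presheaf.map _ (φ c)))
    exact congrArg _ (X.presheaf.germ_res_apply (homOfLE le_top) x hxU (φ c)).symm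
  have hfJ : J.map f ≤ J' := Ideal.map_le_iff_le_comap.2 fun a ha => by
    refine (mem_pointIdeal_iff hx'c U' hx'U _).2 fun hb => ?_
    have : x' ∈ g ⁻¹ᵁ X.basicOpen a := by rw [Scheme.preimage_basicOpen]; exact hb
    exact (mem_pointIdeal_iff hx U hxU a).1 ha (hx' ▸ this)
  have hdec : ∀ r : Γ(Curv2.bc k X k', U'.1), ∃ b : k', r - bU b ∈ J.map f := by
    letI : Algebra k Γ(X, U.1) := cU.toAlgebra
    letI : Algebra k' Γ(Curv2.bc k X k', U'.1) := bU.toAlgebra
    letI : Algebra Γ(X, U.1) Γ(Curv2.bc k X k', U'.1) := f.toAlgebra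
    letI : Algebra k Γ(Curv2.bc k X k', U'.1) := (bU.comp (algebraMap k k')).toAlgebra
    haveI : IsScalarTower k k' Γ(Curv2.bc k X k', U'.1) := .of_algebraMap_eq fun _ => rfl
    haveI : IsScalarTower k Γ(X, U.1) Γ(Curv2.bc k X k', U'.1) := .of_algebraMap_eq fun a => (hfc a).symm
    haveI : Algebra.IsPushout k Γ(X, U.1) k' Γ(Curv2.bc k X k', U'.1) :=
      CommRingCat.isPushout_iff_isPushout.1 (hp U.1 U.2)
    haveI : Algebra.IsPushout k k' Γ(X, U.1) Γ(Curv2.bc k X k', U'.1) := Algebra.IsPushout.symm inferInstance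
    intro r
    induction r using (Algebra.IsPushout.out : IsBaseChange k'
        (IsScalarTower.toAlgHom k Γ(X, U.1) Γ(Curv2.bc k X k', U'.1)).toLinearMap).inductionOn with
    | zero => exact ⟨0, by simp⟩
    | tmul a =>
      obtain ⟨c, hc'⟩ := hres a
      refine ⟨algebraMap k k' c, ?_⟩
      show f a - bU (algebraMap k k' c) ∈ J.map f
      rw [← hfc, ← map_sub]
      exact Ideal.mem_map_of_mem f hc'
    | smul s r h =>
      obtain ⟨b, hb⟩ := h
      refine ⟨s * b, ?_⟩
      rw [map_mul, Algebra.smul_def, show algebraMap k' Γ(Curv2.bc k X k', U'.1) s = bU s from rfl, ← mul_sub]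
      exact Ideal.mul_mem_left _ _ hb
    | add r r' h h' =>
      obtain ⟨b, hb⟩ := h
      obtain ⟨b', hb'⟩ := h'
      refine ⟨b + b', ?_⟩
      rw [map_add, add_sub_add_comm]
      exact add_mem hb hb'
  have hJ' : J' = J.map f := by
    refine le_antisymm (fun a ha => ?_) hfJ
    obtain ⟨b, hb⟩ := hdec a
    rcases eq_or_ne b 0 with rfl | hne
    · simpa using hb
    · exfalso
      have h1 : bU b ∈ J' := by
        have := sub_mem ha (hfJ hb)
        simpa using this
      have h2 : bU b⁻¹ * bU b ∈ J' := Ideal.mul_mem_left _ _ h1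
      rw [← map_mul, inv_mul_cancel₀ hne, map_one] at h2
      refine (mem_pointIdeal_iff hx'c U' hx'U _).1 h2 ?_
      rw [Scheme.basicOpen_of_isUnit _ isUnit_one]
      exact hx'U
  let n := l + 1
  let N : Submodule Γ(X, U.1) Γ(F, U.1) := J ^ n • ⊤
  let S : AddSubgroup Γ(P, U'.1) := AddSubgroup.closure {z | ∃ b, ∃ m ∈ N, z = bU b • p m}
  have hN' : ∀ t ∈ (J' ^ n • (⊤ : Submodule Γ(Curv2.bc k X k', U'.1) Γ(P, U'.1))), t ∈ S := by
    have key : ∀ r ∈ (J ^ n).map f, ∀ m' : Γ(P, U'.1), r • m' ∈ S := by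
      intro r hr
      induction hr using Submodule.span_induction with
      | mem r hr =>
        obtain ⟨j, hj, rfl⟩ := hr
        intro m'
        induction hspanM m' using AddSubgroup.closure_induction with
        | mem z hz =>
          obtain ⟨b, m, rfl⟩ := hz
          refine AddSubgroup.subset_closure ⟨b, j • m, Submodule.smul_mem_smul hj trivial, ?_⟩
          rw [hpsmul, smul_comm]
        | zero => rw [smul_zero]; exact zero_mem _
        | add a b _ _ ha hb => rw [smul_add]; exact add_mem ha hb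
        | neg a _ ha => rw [smul_neg]; exact neg_mem ha
      | zero => intro m'; rw [zero_smul]; exact zero_mem _
      | add a b _ _ ha hb => intro m'; rw [add_smul]; exact add_mem (ha m') (hb m')
      | smul c r _ h => intro m'; rw [smul_assoc, smul_comm]; exact h (c • m')
    intro t ht
    rw [hJ', ← Ideal.map_pow] at ht
    induction ht using Submodule.smul_induction_on' with
    | smul r hr m' _ => exact key r hr m'
    | add a _ b _ ha hb => exact add_mem ha hb
  have hN : ∀ m ∈ N, p m ∈ (J' ^ n • (⊤ : Submodule Γ(Curv2.bc k X k', U'.1) Γ(P, U'.1))) := by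
    intro m hm
    induction hm using Submodule.smul_induction_on' with
    | smul r hr m' _ =>
      rw [hpsmul, hJ', ← Ideal.map_pow]
      exact Submodule.smul_mem_smul (Ideal.mem_map_of_mem f hr) trivial
    | add a _ b _ ha hb => rw [map_add]; exact add_mem ha hb
  -- pulled back global sections
  have hglob : ∀ (b : k') (σ : Γ(F, ⊤)), resM P (le_top : U'.1 ≤ g ⁻¹ᵁ ⊤) (cst β (g ⁻¹ᵁ ⊤) b • pullSec g σ) =
      bU b • p (resM F le_top σ) := fun b σ => by
    rw [resM_smul]
    refine congrArg₂ (fun (r : Γ(Curv2.bc k X k', U'.1)) (t : Γ(P, U'.1)) => r • t) ?_ (resM_pullSec g le_top σ)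
    show (Curv2.bc k X k').presheaf.map _ ((Curv2.bc k X k').presheaf.map _ (β b)) = _
    rw [← ConcreteCategory.comp_apply, ← Functor.map_comp]
    rfl
  rw [Jets24.separatesJets_iff F x hx l U hxU, Jets24.separatesJets_iff P x' hx'c l U' hx'U]
  constructor
  · intro h m'
    induction hspanM m' using AddSubgroup.closure_induction with
    | mem z hz =>
      obtain ⟨b, m, rfl⟩ := hz
      obtain ⟨σ, hσ⟩ := h m
      refine ⟨(show Γ(P, ⊤) from cst β (g ⁻¹ᵁ ⊤) b • pullSec g σ), ?_⟩
      rw [show resM P (le_top : U'.1 ≤ ⊤) (show Γ(P, ⊤) from cst β (g ⁻¹ᵁ ⊤) b • pullSec g σ) =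
        bU b • p (resM F le_top σ) from hglob b σ, ← smul_sub, ← map_sub]
      exact Submodule.smul_mem _ _ (hN _ hσ)
    | zero => exact ⟨0, by rw [map_zero, sub_zero]; exact zero_mem _⟩
    | add a b _ _ ha hb =>
      obtain ⟨σ, hσ⟩ := ha
      obtain ⟨τ, hτ⟩ := hb
      exact ⟨σ + τ, by rw [map_add, add_sub_add_comm]; exact add_mem hσ hτ⟩
    | neg a _ ha =>
      obtain ⟨σ, hσ⟩ := ha
      exact ⟨-σ, by rw [map_neg, ← neg_sub']; exact neg_mem hσ⟩
  · intro h m
    obtain ⟨σ', hσ'⟩ := h (p m)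
    -- a retraction
    obtain ⟨s, hs⟩ := (Algebra.linearMap k k').exists_leftInverse_of_injective
      (LinearMap.ker_eq_bot.2 (algebraMap k k').injective)
    let R : Γ(P, U'.1) →+ Γ(F, U.1) := (secU φ F U.1).toAddMonoidHom.comp
      (((TensorProduct.lift ((LinearMap.lsmul k (HA φ F U.1 0)).comp s)).toAddMonoidHom).comp E.symm.toAddMonoidHom)
    have hR : ∀ b m₁, R (bU b • p m₁) = cU (s b) • m₁ := fun b m₁ => by
      obtain ⟨y, rfl⟩ := (secU φ F U.1).surjective m₁
      rw [show bU b • p (secU φ F U.1 y) = E (b ⊗ₜ y) from (hE b y).symm]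
      show secU φ F U.1 (TensorProduct.lift _ (E.symm (E (b ⊗ₜ y)))) = _
      rw [E.symm_apply_apply, TensorProduct.lift.tmul]
      exact secU_smul φ F U.1 (s b) y
    have hs1 : s 1 = 1 := by
      have := LinearMap.congr_fun hs 1
      simpa using this
    have hRp : R (p m) = m := by
      have := hR 1 m
      rwa [map_one, one_smul, hs1, map_one, one_smul] at this
    have hRS : ∀ t ∈ S, R t ∈ N := by
      intro t ht
      induction ht using AddSubgroup.closure_induction with
      | mem z hz =>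
        obtain ⟨b, m₁, hm₁, rfl⟩ := hz
        rw [hR]
        exact N.smul_mem _ hm₁
      | zero => rw [map_zero]; exact zero_mem _
      | add a b _ _ ha hb => rw [map_add]; exact add_mem ha hb
      | neg a _ ha => rw [map_neg]; exact neg_mem ha
    obtain ⟨σ, hσ⟩ : ∃ σ : Γ(F, ⊤), R (resM P le_top σ') = resM F le_top σ := by
      obtain ⟨z, hz⟩ := ET.surjective σ'
      rw [← hz]
      clear hσ' hz
      induction z with
      | zero => exact ⟨0, by rw [map_zero, map_zero, map_zero, map_zero]⟩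
      | tmul b y =>
        refine ⟨cst φ ⊤ (s b) • secU φ F ⊤ y, ?_⟩
        rw [hET, show resM P (le_top : U'.1 ≤ ⊤) (cst β (g ⁻¹ᵁ ⊤) b • pullSec g (secU φ F ⊤ y)) = _ from hglob b _,
          hR, resM_smul]
        refine congrArg (fun t : Γ(X, U.1) => t • resM F le_top (secU φ F ⊤ y)) ?_
        show _ = X.presheaf.map _ (X.presheaf.map _ (φ (s b)))
        rw [← ConcreteCategory.comp_apply, ← Functor.map_comp]
        rfl
      | add a b ha hb =>
        obtain ⟨σa, ha⟩ := ha
        obtain ⟨σb, hb⟩ := hb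
        exact ⟨σa + σb, by rw [map_add, map_add, map_add, ha, hb, map_add]⟩
    refine ⟨σ, ?_⟩
    have := hRS _ (hN' _ hσ')
    rwa [map_sub, hRp, hσ] at this

end Groth.Agent.JetsBC29
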